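import Mathlib

/-!
Matrices over the field with two elements as lists of columns, each a number.
-/

set_option autoImplicit false

namespace Cfsg.Agent.Spor.Cos.J4Sub

/-- Apply a matrix to a vector. -/
def app : List ℕ → ℕ → ℕ
  | [], _ => 0
  | c :: cs, v => (bif Nat.beq (v % 2) 1 then c else 0) ^^^ app cs (v / 2)

/-- The product. -/
def mm (A B : List ℕ) : List ℕ := B.map (app A)

/-- Columns of the identity from a place. -/
def idCols : ℕ → ℕ → List ℕ
  | 0, _ => []
  | m + 1, i => 2 ^ i :: idCols m (i + 1)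

theorem app_zero : ∀ A : List ℕ, app A 0 = 0
  | [] => rfl
  | c :: cs => by simp [app, app_zero cs, show Nat.beq 0 1 = false from rfl]

theorem app_xor : ∀ (A : List ℕ) (a b : ℕ), app A (a ^^^ b) = app A a ^^^ app A b
  | [], _, _ => by simp [app]
  | c :: cs, a, b => by
    have h : (a ^^^ b) / 2 = a / 2 ^^^ b / 2 := by
      apply Nat.eq_of_testBit_eq
      intro i
      simp [Nat.testBit_div_two, Nat.testBit_xor]
    simp only [app, h, app_xor cs]
    have hb : (a ^^^ b) % 2 = (a % 2 + b % 2) % 2 := by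
      rw [Nat.xor_mod_two_eq]
      omega
    rcases Nat.mod_two_eq_zero_or_one a with ha | ha <;> rcases Nat.mod_two_eq_zero_or_one b with hb' | hb' <;>
      rw [hb, ha, hb'] <;>
      simp [show Nat.beq 0 1 = false from rfl, show Nat.beq 1 1 = true from rfl, Nat.xor_assoc, Nat.xor_comm,
        Nat.xor_left_comm]

theorem app_mm (A : List ℕ) : ∀ (B : List ℕ) (v : ℕ), app (mm A B) v = app A (app B v)
  | [], v => by simp [mm, app, app_zero]
  | c :: cs, v => by
    have h := app_mm A cs (v / 2)
    simp only [mm, List.map_cons, app] at h ⊢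
    rw [h, app_xor]
    cases Nat.beq (v % 2) 1 <;> simp [app_zero]

theorem app_lt {n : ℕ} : ∀ {A : List ℕ}, (∀ c ∈ A, c < 2 ^ n) → ∀ v, app A v < 2 ^ n
  | [], _, _ => by simp [app]
  | c :: cs, h, v => by
    refine Nat.xor_lt_two_pow ?_ (app_lt (fun d hd => h d (List.mem_cons_of_mem _ hd)) _)
    cases Nat.beq (v % 2) 1
    · simp
    · exact h c (List.mem_cons_self ..)

theorem app_idCols : ∀ (m i v : ℕ), v < 2 ^ m → app (idCols m i) v = v <<< i
  | 0, i, v, h => by
    obtain rfl : v = 0 := by simpa using h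
    simp [app, idCols]
  | m + 1, i, v, h => by
    rw [idCols, app, app_idCols m (i + 1) (v / 2) (by omega)]
    apply Nat.eq_of_testBit_eq
    intro j
    rw [Nat.testBit_xor, Nat.testBit_shiftLeft, Nat.testBit_shiftLeft, Nat.testBit_div_two]
    rcases Nat.mod_two_eq_zero_or_one v with hv | hv
    · rw [hv]
      simp only [show Nat.beq 0 1 = false from rfl, cond_false, Nat.zero_testBit, Bool.false_bne]
      rcases Nat.lt_trichotomy j i with hj | rfl | hj
      · simp [show ¬ i + 1 ≤ j by omega, show ¬ i ≤ j by omega]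
      · simp [show ¬ j + 1 ≤ j by omega, Nat.testBit_zero, hv]
      · simp [show i + 1 ≤ j by omega, show i ≤ j by omega, show j - (i + 1) + 1 = j - i by omega]
    · rw [hv]
      simp only [show Nat.beq 1 1 = true from rfl, cond_true, Nat.testBit_two_pow]
      rcases Nat.lt_trichotomy j i with hj | rfl | hj
      · simp [show ¬ i + 1 ≤ j by omega, show ¬ i ≤ j by omega, show ¬ i = j by omega]
      · simp [show ¬ j + 1 ≤ j by omega, Nat.testBit_zero, hv]
      · simp [show i + 1 ≤ j by omega, show i ≤ j by omega, show j - (i + 1) + 1 = j - i by omega,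
          show ¬ i = j by omega]

/-- Vectors of length 112. -/
abbrev Vec : Type := {v : ℕ // v < 2 ^ 112}

/-- Identity of size 112. -/
def idM : List ℕ := idCols 112 0

theorem app_idM (v : Vec) : app idM v.1 = v.1 := by
  rw [idM, app_idCols 112 0 v.1 v.2, Nat.shiftLeft_zero]

/-- Bounded columns. -/
def bdd (A : List ℕ) : Bool := A.all fun c => Nat.blt c (2 ^ 112)

/-- A matrix stands for a permutation of vectors. -/
def Stands (M : List ℕ) (a : Equiv.Perm Vec) : Prop := ∀ v : Vec, (a v).1 = app M v.1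

open Classical in
/-- The permutation of an invertible matrix. -/
noncomputable def permM (A B : List ℕ) : Equiv.Perm Vec :=
  if h : (bdd A = true ∧ bdd B = true) ∧ (∀ v : Vec, app A (app B v.1) = v.1) ∧ ∀ v : Vec, app B (app A v.1) = v.1 then
    { toFun := fun v => ⟨app A v.1, app_lt (fun c hc => Nat.le_of_ble_eq_true (List.all_eq_true.1 h.1.1 c hc)) _⟩
      invFun := fun v => ⟨app B v.1, app_lt (fun c hc => Nat.le_of_ble_eq_true (List.all_eq_true.1 h.1.2 c hc)) _⟩
      left_inv := fun v => Subtype.ext (h.2.2 v)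
      right_inv := fun v => Subtype.ext (h.2.1 v) }
  else 1

theorem stands_permM {A B : List ℕ} (hA : bdd A = true) (hB : bdd B = true) (h1 : mm A B = idM)
    (h2 : mm B A = idM) : Stands A (permM A B) := by
  intro v
  rw [permM, dif_pos ⟨⟨hA, hB⟩, fun w => by rw [← app_mm, h1, app_idM], fun w => by rw [← app_mm, h2, app_idM]⟩]
  rfl

theorem Stands.mul {A B C : List ℕ} {a b : Equiv.Perm Vec} (ha : Stands A a) (hb : Stands B b) (h : mm A B = C) :
    Stands C (a * b) := by
  intro v
  rw [← h, app_mm, Equiv.Perm.mul_apply, ha, hb]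

theorem Stands.inv {A B : List ℕ} {a : Equiv.Perm Vec} (ha : Stands A a) (h : mm B A = idM) : Stands B a⁻¹ := by
  intro v
  have e : (a (a⁻¹ v)).1 = v.1 := by simp
  rw [ha] at e
  conv_rhs => rw [← e]
  rw [← app_mm, h, app_idM]

theorem Stands.pow_one {A : List ℕ} {a : Equiv.Perm Vec} (ha : Stands A a) : Stands A (a ^ 1) := by
  rwa [_root_.pow_one]

theorem Stands.pow_succ {A B C : List ℕ} {a : Equiv.Perm Vec} {k : ℕ} (hk : Stands A (a ^ k)) (ha : Stands B a)
    (h : mm A B = C) : Stands C (a ^ (k + 1)) := by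
  rw [_root_.pow_succ]
  exact hk.mul ha h

theorem Stands.eq_one {a : Equiv.Perm Vec} (ha : Stands idM a) : a = 1 :=
  Equiv.ext fun v => Subtype.ext (by rw [ha v, app_idM]; rfl)

end Cfsg.Agent.Spor.Cos.J4Sub
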